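import Groth.Agent.Lib.Helper25.DMon.EvalTen

/-!
# The map `RHom(L, M) ⊗ᴸ K ⟶ RHom(RHom(K, L), M)` is an isomorphism if `K` is a right dual
-/

set_option autoImplicit false
universe v u

open CategoryTheory CategoryTheory.Limits MonoidalCategory DerivedCategory

namespace Groth.Agent.Lib.Helper25.DMon

section General

variable {C : Type u} [Category.{v} C] [MonoidalCategory C]

theorem tensorLeftHomEquiv_symm_apply' (X K' K Z : C) [ExactPairing K' K] (f : X ⟶ K' ⊗ Z) :
    (tensorLeftHomEquiv X K' K Z).symm f =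
      K ◁ f ≫ (α_ K K' Z).inv ≫ ε_ K' K ▷ Z ≫ (λ_ Z).hom := rfl

theorem evalHom_key (K' K : C) [ExactPairing K' K] (X Y L : C) (p : K ⊗ Y ⟶ L) :
    (α_ X K Y).hom ≫ X ◁ p =
      (X ⊗ K) ◁ (tensorLeftHomEquiv Y K' K L p) ≫ (α_ (X ⊗ K) K' L).inv ≫
        ((tensorRightAdjunction K' K).counit.app X) ▷ L := by
  conv_lhs => rw [← (tensorLeftHomEquiv Y K' K L).symm_apply_apply p]
  generalize tensorLeftHomEquiv Y K' K L p = ψ
  rw [tensorLeftHomEquiv_symm_apply', tensorRightAdjunction_counit_app]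
  monoidal

end General

attribute [local instance] HasDerivedCategory.standard

open DTen

variable {A : Type u} [CommRing A] [DTen.HasLTen A] [DTen.HasLTen₃ A] [DTen.IsSymMonoidal A]
  [DTen.HasRHom A]

section EvalHom

variable (K' K : Dual.D A) [ExactPairing K' K] (L : Dual.D A)

/-- the pairing `K ⊗ RHom(K, L) ⟶ L` -/
noncomputable def pairing : K ⊗ (RHomR A K).obj L ⟶ L :=
  (symm A).app ((RHomR A K).obj L, K) ≫ DTen.ev K L

/-- the comparison `RHom(K, L) ⟶ K' ⊗ L` -/
noncomputable def psi : (RHomR A K).obj L ⟶ K' ⊗ L :=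
  tensorLeftHomEquiv _ K' K L (pairing K L)

theorem comp_psi (T : Dual.D A) (x : T ⟶ (RHomR A K).obj L) :
    x ≫ psi K' K L =
      tensorLeftHomEquiv T K' K L ((symm A).app (T, K) ≫ (rhomHomEquiv T K L).symm x) := by
  apply (tensorLeftHomEquiv T K' K L).symm.injective
  rw [Equiv.symm_apply_apply, tensorLeftHomEquiv_symm_naturality]
  unfold psi
  rw [Equiv.symm_apply_apply]
  unfold pairing
  have nat := (symm A).naturality
    (Prod.mkHom x (𝟙 K) : ((T, K) : Dual.D A × Dual.D A) ⟶ ((RHomR A K).obj L, K))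
  rw [Adjunction.homEquiv_counit]
  exact (reassoc_of% nat) _

instance isIso_psi : IsIso (psi K' K L) := by
  apply isIso_of_yoneda_map_bijective
  intro T
  have h : (fun x : T ⟶ (RHomR A K).obj L => x ≫ psi K' K L) =
      (tensorLeftHomEquiv T K' K L) ∘ (fun g => (symm A).app (T, K) ≫ g) ∘
        (rhomHomEquiv T K L).symm := by
    funext x
    exact comp_psi K' K L T x
  rw [h]
  refine (Equiv.bijective _).comp (Function.Bijective.comp ?_ (Equiv.bijective _))
  constructor
  · intro g g' hg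
    exact (cancel_epi _).1 hg
  · intro g
    exact ⟨inv ((symm A).app (T, K)) ≫ g, by simp⟩

/-- the adjunction `(- ⊗ K') ⊗ L ⊣ RHom(L, -) ⊗ K` -/
noncomputable def adjH₁ : tensorRight K' ⋙ tensorRightD A L ⊣ RHomR A L ⋙ tensorRight K :=
  (tensorRightAdjunction K' K).comp (rhomAdj A L)

/-- the natural transformation `- ⊗ RHom(K, L) ⟶ (- ⊗ K') ⊗ L` -/
noncomputable def psiNat :
    tensorRightD A ((RHomR A K).obj L) ⟶ tensorRight K' ⋙ tensorRightD A L where
  app T := T ◁ psi K' K L ≫ (α_ T K' L).inv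
  naturality T T' f := by
    change f ▷ _ ≫ T' ◁ psi K' K L ≫ (α_ T' K' L).inv =
      (T ◁ psi K' K L ≫ (α_ T K' L).inv) ≫ (f ▷ K') ▷ L
    rw [← whisker_exchange_assoc, associator_inv_naturality_left, Category.assoc]

instance : IsIso (psiNat K' K L) := by
  have : ∀ T, IsIso ((psiNat K' K L).app T) := fun T => by
    change IsIso (T ◁ psi K' K L ≫ (α_ T K' L).inv)
    infer_instance
  exact NatIso.isIso_of_isIso_app _

/-- the conjugate of `psiNat` -/
noncomputable def conjPsi :
    RHomR A L ⋙ tensorRight K ⟶ RHomR A ((RHomR A K).obj L) :=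
  conjugateEquiv (adjH₁ K' K L) (rhomAdj A ((RHomR A K).obj L)) (psiNat K' K L)

instance : IsIso (conjPsi K' K L) := by
  unfold conjPsi
  infer_instance

theorem evalHom_eq_conjPsi (M : Dual.D A) : evalHom K L M = (conjPsi K' K L).app M := by
  apply ((rhomAdj A ((RHomR A K).obj L)).homEquiv _ _).symm.injective
  rw [Adjunction.homEquiv_counit, Adjunction.homEquiv_counit]
  have h := conjugateEquiv_counit (adjH₁ K' K L) (rhomAdj A ((RHomR A K).obj L))
    (psiNat K' K L) M
  refine Eq.trans ?_ h.symm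
  unfold adjH₁
  rw [Adjunction.comp_counit_app]
  refine (evalHom_fac K L M).trans ?_
  change (α_ ((RHomR A L).obj M) K ((RHomR A K).obj L)).hom ≫
      ((RHomR A L).obj M) ◁ (pairing K L) ≫ DTen.ev L M =
    (((RHomR A L).obj M ⊗ K) ◁ psi K' K L ≫ (α_ ((RHomR A L).obj M ⊗ K) K' L).inv) ≫
      ((tensorRightAdjunction K' K).counit.app ((RHomR A L).obj M)) ▷ L ≫ DTen.ev L M
  rw [← Category.assoc, evalHom_key K' K]
  unfold psi
  simp only [Category.assoc]

include K' in
theorem isIso_evalHom_of_exactPairing (M : Dual.D A) : IsIso (evalHom K L M) := by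
  rw [evalHom_eq_conjPsi K' K L M]
  infer_instance

end EvalHom

end Groth.Agent.Lib.Helper25.DMon
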