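import Groth.Agent.Lib.Helper25.DMon.EvalHom

/-!
# Naturality of `evalHom` in its first variable, and the `Hom`-level description of `RHomMap`
-/

set_option autoImplicit false
universe v u

open CategoryTheory CategoryTheory.Limits MonoidalCategory DerivedCategory

namespace Groth.Agent.Lib.Helper25.DMon

attribute [local instance] HasDerivedCategory.standard

open DTen

variable {A : Type u} [CommRing A] [DTen.HasLTen A] [DTen.HasLTen₃ A] [DTen.IsSymMonoidal A]
  [DTen.HasRHom A]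

/-- dinaturality of the evaluation -/
theorem RHomMap_ev {L L' : Dual.D A} (g : L' ⟶ L) (M : Dual.D A) :
    RHomMap g M ▷ L' ≫ DTen.ev L' M = ((RHomR A L).obj M) ◁ g ≫ DTen.ev L M :=
  RHom_map_ev g M

/-- naturality of the symmetry -/
theorem symm_naturality {X X' Y Y' : Dual.D A} (f : X ⟶ X') (g : Y ⟶ Y') :
    (g ⊗ₘ f) ≫ (symm A).app (X', Y') = (symm A).app (X, Y) ≫ (f ⊗ₘ g) :=
  (symm A).naturality (Prod.mkHom f g : ((X, Y) : Dual.D A × Dual.D A) ⟶ (X', Y'))

theorem symm_naturality_left {X Y Y' : Dual.D A} (g : Y ⟶ Y') :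
    g ▷ X ≫ (symm A).app (X, Y') = (symm A).app (X, Y) ≫ X ◁ g := by
  have h := symm_naturality (𝟙 X) g
  rwa [tensorHom_id, id_tensorHom] at h

theorem symm_naturality_right {X X' Y : Dual.D A} (f : X ⟶ X') :
    Y ◁ f ≫ (symm A).app (X', Y) = (symm A).app (X, Y) ≫ f ▷ Y := by
  have h := symm_naturality f (𝟙 Y)
  rwa [tensorHom_id, id_tensorHom] at h

/-- dinaturality of the pairing `K ⊗ RHom(K, L) ⟶ L` -/
theorem pairing_dinat {K K' : Dual.D A} (f : K' ⟶ K) (L : Dual.D A) :
    K' ◁ RHomMap f L ≫ pairing K' L = f ▷ ((RHomR A K).obj L) ≫ pairing K L := by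
  unfold pairing
  rw [← Category.assoc, symm_naturality_right, Category.assoc, RHomMap_ev, ← Category.assoc,
    ← symm_naturality_left, Category.assoc]

theorem evalHomAux_eq (K L M : Dual.D A) :
    evalHomAux K L M = (α_ ((RHomR A L).obj M) K ((RHomR A K).obj L)).hom ≫
      ((RHomR A L).obj M) ◁ pairing K L ≫ DTen.ev L M := rfl

/-- dinaturality of `evalHomAux` -/
theorem evalHomAux_dinat {K K' : Dual.D A} (f : K' ⟶ K) (L M : Dual.D A) :
    (((RHomR A L).obj M) ◁ f) ▷ ((RHomR A K).obj L) ≫ evalHomAux K L M =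
      (((RHomR A L).obj M) ⊗ K') ◁ RHomMap f L ≫ evalHomAux K' L M := by
  rw [evalHomAux_eq, evalHomAux_eq, associator_naturality_middle_assoc,
    associator_naturality_right_assoc, ← MonoidalCategory.whiskerLeft_comp_assoc,
    ← MonoidalCategory.whiskerLeft_comp_assoc, pairing_dinat]

/-- **Naturality of `evalHom` in `K`.** -/
theorem evalHom_naturality {K K' : Dual.D A} (f : K' ⟶ K) (L M : Dual.D A) :
    ((RHomR A L).obj M) ◁ f ≫ evalHom K L M =
      evalHom K' L M ≫ RHomMap (RHomMap f L) M := by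
  apply ((rhomAdj A ((RHomR A K).obj L)).homEquiv _ _).symm.injective
  rw [Adjunction.homEquiv_counit, Adjunction.homEquiv_counit]
  change (((RHomR A L).obj M) ◁ f ≫ evalHom K L M) ▷ ((RHomR A K).obj L) ≫
      DTen.ev ((RHomR A K).obj L) M =
    (evalHom K' L M ≫ RHomMap (RHomMap f L) M) ▷ ((RHomR A K).obj L) ≫
      DTen.ev ((RHomR A K).obj L) M
  have h1 : evalHom K L M ▷ ((RHomR A K).obj L) ≫ DTen.ev ((RHomR A K).obj L) M =
      evalHomAux K L M := evalHom_fac K L M
  have h2 : evalHom K' L M ▷ ((RHomR A K').obj L) ≫ DTen.ev ((RHomR A K').obj L) M =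
      evalHomAux K' L M := evalHom_fac K' L M
  rw [MonoidalCategory.comp_whiskerRight, Category.assoc, h1, evalHomAux_dinat,
    MonoidalCategory.comp_whiskerRight, Category.assoc, RHomMap_ev, ← h2,
    whisker_exchange_assoc]

/-- the `Hom`-level description of `RHomMap`: under the adjunction, post-composition with
`RHomMap u M` is pre-composition with `T ◁ u` -/
theorem rhomHomEquiv_symm_comp_RHomMap {Y Y' : Dual.D A} (u : Y' ⟶ Y) (T M : Dual.D A)
    (g : T ⟶ (RHomR A Y).obj M) :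
    (rhomHomEquiv T Y' M).symm (g ≫ RHomMap u M) = T ◁ u ≫ (rhomHomEquiv T Y M).symm g := by
  rw [Adjunction.homEquiv_counit, Adjunction.homEquiv_counit]
  change (g ≫ RHomMap u M) ▷ Y' ≫ DTen.ev Y' M = T ◁ u ≫ g ▷ Y ≫ DTen.ev Y M
  rw [MonoidalCategory.comp_whiskerRight, Category.assoc, RHomMap_ev, whisker_exchange_assoc]

/-- post-composition with `RHomMap u M` on `Hom(T, -)` is bijective iff pre-composition with
`T ◁ u` on `Hom(-, M)` is -/
theorem bijective_comp_RHomMap_iff {Y Y' : Dual.D A} (u : Y' ⟶ Y) (T M : Dual.D A) :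
    Function.Bijective (fun g : T ⟶ (RHomR A Y).obj M => g ≫ RHomMap u M) ↔
      Function.Bijective (fun φ : T ⊗ Y ⟶ M => T ◁ u ≫ φ) := by
  have h : (fun g : T ⟶ (RHomR A Y).obj M => g ≫ RHomMap u M) =
      (rhomHomEquiv T Y' M) ∘ (fun φ : T ⊗ Y ⟶ M => T ◁ u ≫ φ) ∘ (rhomHomEquiv T Y M).symm := by
    funext g
    apply (rhomHomEquiv T Y' M).symm.injective
    dsimp only [Function.comp]
    rw [Equiv.symm_apply_apply]
    exact rhomHomEquiv_symm_comp_RHomMap u T M g
  rw [h]
  constructor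
  · intro hb
    have h1 := ((rhomHomEquiv T Y' M).symm.bijective.comp hb).comp (rhomHomEquiv T Y M).bijective
    convert h1 using 1
    funext φ
    simp
  · intro hb
    exact (rhomHomEquiv T Y' M).bijective.comp (hb.comp (rhomHomEquiv T Y M).symm.bijective)

/-- pre-composition with `T ◁ u` on `Hom(-, M)` is bijective iff pre-composition with `u` on
`Hom(-, RHom(T, M))` is -/
theorem bijective_whiskerLeft_comp_iff {Y Y' : Dual.D A} (u : Y' ⟶ Y) (T M : Dual.D A) :
    Function.Bijective (fun φ : T ⊗ Y ⟶ M => T ◁ u ≫ φ) ↔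
      Function.Bijective (fun ψ : Y ⟶ (RHomR A T).obj M => u ≫ ψ) := by
  -- `Hom(T ⊗ Y, M) ≃ Hom(Y ⊗ T, M) ≃ Hom(Y, RHom(T, M))`
  let F : ∀ W : Dual.D A, (T ⊗ W ⟶ M) ≃ (W ⟶ (RHomR A T).obj M) := fun W =>
    ((braiding T W).symm.homFromEquiv (Z := M)).trans (rhomHomEquiv W T M)
  have hF : ∀ φ : T ⊗ Y ⟶ M, F Y' (T ◁ u ≫ φ) = u ≫ F Y φ := by
    intro φ
    change rhomHomEquiv Y' T M ((symm A).app (T, Y') ≫ T ◁ u ≫ φ) =
      u ≫ rhomHomEquiv Y T M ((symm A).app (T, Y) ≫ φ)
    rw [← Category.assoc, ← symm_naturality_left, Category.assoc]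
    exact (rhomAdj A T).homEquiv_naturality_left u _
  have h : (fun φ : T ⊗ Y ⟶ M => T ◁ u ≫ φ) =
      (F Y').symm ∘ (fun ψ : Y ⟶ (RHomR A T).obj M => u ≫ ψ) ∘ (F Y) := by
    funext φ
    apply (F Y').injective
    dsimp only [Function.comp]
    rw [Equiv.apply_symm_apply]
    exact hF φ
  rw [h]
  constructor
  · intro hb
    have h1 := ((F Y').bijective.comp hb).comp (F Y).symm.bijective
    convert h1 using 1
    funext ψ
    simp
  · intro hb
    exact (F Y').symm.bijective.comp (hb.comp (F Y).bijective)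

end Groth.Agent.Lib.Helper25.DMon
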