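import Groth.Agent.Lib.Helper25.DMon.WayOutLTen

/-!
# `RHom(L, M) ⊗ᴸ K ⟶ RHom(RHom(K, L), M)` is an isomorphism for `K` pseudo-coherent,
`L ∈ D⁺(A)` and `M` of finite injective dimension
-/

set_option autoImplicit false
universe u

open CategoryTheory CategoryTheory.Limits MonoidalCategory DerivedCategory
open CategoryTheory.Pretriangulated

namespace Groth.Agent.Lib.Helper25.DMon

attribute [local instance] HasDerivedCategory.standard

open DTen Groth.Agent.Lib.Helper25.WayOutCx Groth.Agent.Lib.Helper25.KFlat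
open Groth.Agent.Lib.Helper25.LTenCompute Groth.Agent.Lib.Helper62
open Groth.Agent.Lib.Helper25.TensorCx

variable {A : Type u} [CommRing A]

section Sigma

variable (E : Cx A) (hE : DRing.TermwiseFiniteFree E) (r : ℤ)

include hE

theorem sigmaGE_finite_free (i : ℤ) :
    Module.Finite A ((sigmaGE r E).X i) ∧ Module.Free A ((sigmaGE r E).X i) := by
  by_cases h : r ≤ i
  · let e : (sigmaGE r E).X i ≃ₗ[A] E.X i := (sigmaGEXIso r E i h).toLinearEquiv
    obtain ⟨h1, h2⟩ := hE i
    exact ⟨Module.Finite.equiv e.symm, Module.Free.of_equiv e.symm⟩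
  · have : Subsingleton ((sigmaGE r E).X i) :=
      ModuleCat.isZero_iff_subsingleton.1 (isZero_sigmaGE_X r E i (by omega))
    exact ⟨inferInstance, inferInstance⟩

theorem isZero_sigmaGE_X_of_gt (b : ℤ) (hb : DRing.VanishesAbove E b) (i : ℤ) (hi : b < i) :
    IsZero ((sigmaGE r E).X i) := by
  by_cases h : r ≤ i
  · exact IsZero.of_iso (hb i hi) (sigmaGEXIso r E i h)
  · exact isZero_sigmaGE_X r E i (by omega)

theorem isKFlat_sigmaGE (b : ℤ) (hb : DRing.VanishesAbove E b) : IsKFlat (sigmaGE r E) :=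
  isKFlat_of_boundedAbove_of_flat _ b (isZero_sigmaGE_X_of_gt E hE r b hb) (fun i => by
    obtain ⟨h1, h2⟩ := sigmaGE_finite_free E hE r i
    infer_instance)

theorem isKFlat_of_termwiseFiniteFree (b : ℤ) (hb : DRing.VanishesAbove E b) : IsKFlat E :=
  isKFlat_of_boundedAbove_of_flat _ b hb (fun i => by
    obtain ⟨h1, h2⟩ := hE i
    infer_instance)

theorem isPerfect_sigmaGE (b : ℤ) (hb : DRing.VanishesAbove E b) :
    DRing.IsPerfect A (Q.obj (sigmaGE r E)) := by
  refine ⟨sigmaGE r E, r, b, ?_, ?_, ⟨Iso.refl _⟩⟩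
  · rintro i (hi | hi)
    · exact isZero_sigmaGE_X r E i hi
    · exact isZero_sigmaGE_X_of_gt E hE r b hb i hi
  · intro i
    obtain ⟨h1, h2⟩ := sigmaGE_finite_free E hE r i
    exact ⟨h1, inferInstance⟩

end Sigma

variable [DTen.HasLTen A] [DTen.HasLTen₃ A] [DTen.IsSymMonoidal A] [DTen.HasRHom A]

instance isIso_RHomMap {L L' : Dual.D A} (g : L' ⟶ L) [IsIso g] (M : Dual.D A) :
    IsIso (RHomMap g M) := by
  have : IsIso ((RHom A).map g.op) := inferInstance
  exact NatIso.isIso_app_of_isIso ((RHom A).map g.op) M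

/-- the key step: for `K = Q(E)` -/
theorem isIso_evalHom_Q (E : Cx A) (bE : ℤ) (hb : DRing.VanishesAbove E bE)
    (hE : DRing.TermwiseFiniteFree E) (L : Dual.D A) (n : ℤ) [L.IsGE n] (M : Dual.D A) (a d : ℤ)
    (hM : DRing.HasInjAmplitudeIn A a d M) : IsIso (evalHom (Q.obj E) L M) := by
  apply isIso_of_bijective_hom_sglA
  intro i
  -- the parameters
  have hX : ((RHomR A L).obj M).IsLE (d - n) := isLE_RHom L n M a d hM
  let r : ℤ := i - (d - n) - 2
  let m : ℤ := d - i + 1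
  let ι : sigmaGE r E ⟶ E := sigmaGEι r E
  have hι : ∀ q, r ≤ q → IsIso (ι.f q) := isIso_sigmaGEι_f r E
  have hE' : IsKFlat (sigmaGE r E) := isKFlat_sigmaGE E hE r bE hb
  have hEf : IsKFlat E := isKFlat_of_termwiseFiniteFree E hE bE hb
  -- naturality
  have nat := evalHom_naturality (Q.map ι) L M
  -- the perfect case
  have hperf : IsIso (evalHom (Q.obj (sigmaGE r E)) L M) := by
    obtain ⟨K', ⟨hK'⟩⟩ := exists_exactPairing_left_of_isPerfect (Q.obj (sigmaGE r E))
      (isPerfect_sigmaGE E hE r bE hb)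
    exact isIso_evalHom_of_exactPairing K' (Q.obj (sigmaGE r E)) L M
  -- top
  have htop := bijective_postcomp_whiskerLeft ι hE' hEf r hι ((RHomR A L).obj M) (d - n) i
    (by omega)
  -- bottom
  let u : (RHomR A (Q.obj E)).obj L ⟶ (RHomR A (Q.obj (sigmaGE r E))).obj L :=
    RHomMap (Q.map ι) L
  have hu : ∀ (T : Dual.D A) [T.IsLE m],
      Function.Bijective (fun g : T ⟶ (RHomR A (Q.obj E)).obj L => g ≫ u) := by
    intro T _
    rw [bijective_comp_RHomMap_iff (Q.map ι) T L]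
    exact bijective_precomp_whiskerLeft ι hE' hEf r hι T m L n (by omega)
  obtain ⟨Z, g, k, hT⟩ := distinguished_cocone_triangle u
  have hZ : Z.IsGE m := by
    change DerivedCategory.TStructure.t.IsGE Z m
    rw [DerivedCategory.TStructure.t.isGE_iff_orthogonal (m - 1) m (by omega)]
    intro T f hT'
    have hTm : T.IsLE m := DerivedCategory.TStructure.t.isLE_of_le T (m - 1) m (by omega)
    have hTs : (T⟦(-1 : ℤ)⟧).IsLE m :=
      DerivedCategory.TStructure.t.isLE_shift T (m - 1) (-1) m (by omega)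
    have := subsingleton_hom_obj₃ _ hT T (hu T).surjective (hu (T⟦(-1 : ℤ)⟧)).injective
    exact this.elim _ _
  have hZs : (Z⟦(-1 : ℤ)⟧).IsGE (m + 1) :=
    DerivedCategory.TStructure.t.isGE_shift Z m (-1) (m + 1) (by omega)
  have h0 := subsingleton_hom_RHom_sglA Z m i M a d hM (by omega)
  have h1 := subsingleton_hom_RHom_sglA (Z⟦(-1 : ℤ)⟧) (m + 1) i M a d hM (by omega)
  have hbot : Function.Bijective (fun g : Q.obj (sglA A i) ⟶
      (RHomR A ((RHomR A (Q.obj (sigmaGE r E))).obj L)).obj M => g ≫ RHomMap u M) := by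
    rw [bijective_comp_RHomMap_iff u (Q.obj (sglA A i)) M,
      bijective_whiskerLeft_comp_iff u (Q.obj (sglA A i)) M]
    exact Groth.Agent.Lib.Helper25.TriBij.bijective_precomp_mor₁ _ hT _ h0 h1
  -- conclusion
  have hmid : Function.Bijective (fun g : Q.obj (sglA A i) ⟶
      (RHomR A L).obj M ⊗ Q.obj (sigmaGE r E) => g ≫ evalHom (Q.obj (sigmaGE r E)) L M) :=
    ⟨fun x y h => (cancel_mono _).1 h,
      fun y => ⟨y ≫ inv (evalHom (Q.obj (sigmaGE r E)) L M), by simp⟩⟩
  have hcomp : (fun g : Q.obj (sglA A i) ⟶ (RHomR A L).obj M ⊗ Q.obj E =>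
        g ≫ evalHom (Q.obj E) L M) ∘
      (fun g : Q.obj (sglA A i) ⟶ (RHomR A L).obj M ⊗ Q.obj (sigmaGE r E) =>
        g ≫ ((RHomR A L).obj M) ◁ Q.map ι) =
      (fun g => g ≫ RHomMap u M) ∘
        (fun g : Q.obj (sglA A i) ⟶ (RHomR A L).obj M ⊗ Q.obj (sigmaGE r E) =>
          g ≫ evalHom (Q.obj (sigmaGE r E)) L M) := by
    funext g
    dsimp only [Function.comp]
    rw [Category.assoc, Category.assoc, nat]
  have hall := hbot.comp hmid
  rw [← hcomp] at hall
  exact (Function.Bijective.of_comp_iff _ htop).1 hall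

/-- **Main theorem** -/
theorem isIso_evalHom_of_isPseudoCoherent (K L M : Dual.D A) (hK : DRing.IsPseudoCoherent' A K)
    (n : ℤ) (hL : L.IsGE n) (hM : DRing.HasFiniteInjDim A M) : IsIso (evalHom K L M) := by
  obtain ⟨E, bE, hb, hE, ⟨eK⟩⟩ := hK
  obtain ⟨a, d, hM⟩ := hM
  have h1 : IsIso (evalHom (Q.obj E) L M) := isIso_evalHom_Q E bE hb hE L n M a d hM
  have nat := evalHom_naturality eK.hom L M
  have h2 : IsIso (((RHomR A L).obj M) ◁ eK.hom ≫ evalHom K L M) := by
    rw [nat]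
    infer_instance
  exact IsIso.of_isIso_comp_left (((RHomR A L).obj M) ◁ eK.hom) _

end Groth.Agent.Lib.Helper25.DMon
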