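import Groth.Agent.Lib.Helper25.DMon.Rigid
import Mathlib.CategoryTheory.Adjunction.Mates

/-!
# The map `K ⊗ᴸ RHom(M, L) ⟶ RHom(M, K ⊗ᴸ L)` is an isomorphism if `K` or `M` is dualizable
-/

set_option autoImplicit false
universe v u

open CategoryTheory CategoryTheory.Limits MonoidalCategory DerivedCategory

namespace Groth.Agent.Lib.Helper25.DMon

section General

variable {C : Type u} [Category.{v} C] [MonoidalCategory C]

theorem tensorLeftAdjunction_counit_app (K K' : C) [ExactPairing K K'] (Z : C) :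
    (tensorLeftAdjunction K K').counit.app Z = (α_ K' K Z).inv ≫ ε_ K K' ▷ Z ≫ (λ_ Z).hom := by
  simp [tensorLeftAdjunction, Adjunction.mkOfHomEquiv, tensorLeftHomEquiv]

theorem tensorRightAdjunction_counit_app (M N : C) [ExactPairing M N] (Z : C) :
    (tensorRightAdjunction M N).counit.app Z = (α_ Z N M).hom ≫ Z ◁ ε_ M N ≫ (ρ_ Z).hom := by
  simp [tensorRightAdjunction, Adjunction.mkOfHomEquiv, tensorRightHomEquiv]

theorem tensorLeft_key (K K' : C) [ExactPairing K K'] (X M L : C) (e : X ⊗ M ⟶ L) :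
    K' ◁ ((α_ K X M).hom ≫ K ◁ e) ≫ (tensorLeftAdjunction K K').counit.app L =
      (α_ K' (K ⊗ X) M).inv ≫ (tensorLeftAdjunction K K').counit.app X ▷ M ≫ e := by
  have nat := (tensorLeftAdjunction K K').counit.naturality e
  dsimp at nat
  rw [MonoidalCategory.whiskerLeft_comp, Category.assoc, nat, tensorLeftAdjunction_counit_app,
    tensorLeftAdjunction_counit_app]
  simp only [← Category.assoc]
  congr 1
  monoidal

theorem tensorRight_key (M N : C) [ExactPairing M N] (K L : C) :
    (α_ K (L ⊗ N) M).hom ≫ K ◁ (tensorRightAdjunction M N).counit.app L =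
      (α_ K L N).inv ▷ M ≫ (tensorRightAdjunction M N).counit.app (K ⊗ L) := by
  rw [tensorRightAdjunction_counit_app, tensorRightAdjunction_counit_app]
  monoidal

end General

attribute [local instance] HasDerivedCategory.standard

open DTen

variable {A : Type u} [CommRing A] [DTen.HasLTen A] [DTen.HasLTen₃ A] [DTen.IsSymMonoidal A]
  [DTen.HasRHom A]

section RightDual

variable (M N : Dual.D A) [ExactPairing M N]

/-- the adjunction `- ⊗ M ⊣ - ⊗ N` -/
noncomputable def adjN : tensorRightD A M ⊣ tensorRight N := tensorRightAdjunction M N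

/-- `RHom(M, -) ≅ - ⊗ N` -/
noncomputable def theta : RHomR A M ⟶ tensorRight N :=
  conjugateEquiv (rhomAdj A M) (adjN M N) (𝟙 _)

instance : IsIso (theta M N) := by
  unfold theta
  infer_instance

/-- the components of `theta` -/
noncomputable def thetaApp (L : Dual.D A) : (RHomR A M).obj L ⟶ L ⊗ N := (theta M N).app L

instance (L : Dual.D A) : IsIso (thetaApp M N L) := by
  unfold thetaApp
  infer_instance

theorem theta_counit (L : Dual.D A) :
    thetaApp M N L ▷ M ≫ (tensorRightAdjunction M N).counit.app L = DTen.ev M L := by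
  have h := conjugateEquiv_counit (rhomAdj A M) (adjN M N) (𝟙 _) L
  rw [NatTrans.id_app, Category.id_comp] at h
  exact h

theorem evalTen_theta (K L : Dual.D A) :
    evalTen K L M ≫ thetaApp M N (K ⊗ L) = K ◁ thetaApp M N L ≫ (α_ K L N).inv := by
  apply ((adjN M N).homEquiv _ _).symm.injective
  rw [Adjunction.homEquiv_counit, Adjunction.homEquiv_counit]
  change (evalTen K L M ≫ thetaApp M N (K ⊗ L)) ▷ M ≫
      (tensorRightAdjunction M N).counit.app (K ⊗ L) =
    (K ◁ thetaApp M N L ≫ (α_ K L N).inv) ▷ M ≫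
      (tensorRightAdjunction M N).counit.app (K ⊗ L)
  rw [MonoidalCategory.comp_whiskerRight, Category.assoc, theta_counit]
  have h1 : evalTen K L M ▷ M ≫ DTen.ev M (K ⊗ L) = evalTenAux K L M := evalTen_fac K L M
  rw [h1]
  have h2 : evalTenAux K L M = (α_ K ((RHomR A M).obj L) M).hom ≫ K ◁ DTen.ev M L := rfl
  rw [h2, ← theta_counit M N L, MonoidalCategory.comp_whiskerRight, Category.assoc,
    ← tensorRight_key, MonoidalCategory.whiskerLeft_comp, associator_naturality_middle_assoc]

include N in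
theorem isIso_evalTen_of_exactPairing_right (K L : Dual.D A) : IsIso (evalTen K L M) := by
  have h := evalTen_theta M N K L
  have : IsIso (evalTen K L M ≫ thetaApp M N (K ⊗ L)) := by
    rw [h]
    infer_instance
  exact IsIso.of_isIso_comp_right (evalTen K L M) (thetaApp M N (K ⊗ L))

end RightDual

section LeftDual

variable (K K' : Dual.D A) [ExactPairing K K'] (M : Dual.D A)

/-- `K' ⊗ (T ⊗ M) ⟶ (K' ⊗ T) ⊗ M`, natural in `T` -/
noncomputable def assocNat :
    tensorRightD A M ⋙ tensorLeft K' ⟶ tensorLeft K' ⋙ tensorRightD A M where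
  app T := (α_ K' T M).inv
  naturality _ _ f := associator_inv_naturality_middle K' f M

instance : IsIso (assocNat K' M) := by
  have : ∀ T, IsIso ((assocNat K' M).app T) := fun T => by
    change IsIso (α_ K' T M).inv
    infer_instance
  exact NatIso.isIso_of_isIso_app _

/-- the adjunction `(K' ⊗ -) ⊗ M ⊣ K ⊗ RHom(M, -)` -/
noncomputable def adjL₁ : tensorLeft K' ⋙ tensorRightD A M ⊣ RHomR A M ⋙ tensorLeft K :=
  (tensorLeftAdjunction K K').comp (rhomAdj A M)

/-- the adjunction `K' ⊗ (- ⊗ M) ⊣ RHom(M, K ⊗ -)` -/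
noncomputable def adjL₂ : tensorRightD A M ⋙ tensorLeft K' ⊣ tensorLeft K ⋙ RHomR A M :=
  (rhomAdj A M).comp (tensorLeftAdjunction K K')

/-- the conjugate of the associator -/
noncomputable def conjAssoc : RHomR A M ⋙ tensorLeft K ⟶ tensorLeft K ⋙ RHomR A M :=
  conjugateEquiv (adjL₁ K K' M) (adjL₂ K K' M) (assocNat K' M)

instance : IsIso (conjAssoc K K' M) := by
  unfold conjAssoc
  infer_instance

theorem evalTen_eq_conjAssoc (L : Dual.D A) : evalTen K L M = (conjAssoc K K' M).app L := by
  apply ((adjL₂ K K' M).homEquiv _ _).symm.injective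
  rw [Adjunction.homEquiv_counit, Adjunction.homEquiv_counit]
  have h := conjugateEquiv_counit (adjL₁ K K' M) (adjL₂ K K' M) (assocNat K' M) L
  refine Eq.trans ?_ h.symm
  unfold adjL₁ adjL₂
  rw [Adjunction.comp_counit_app, Adjunction.comp_counit_app]
  change K' ◁ (evalTen K L M ▷ M) ≫ K' ◁ (DTen.ev M (K ⊗ L)) ≫
      (tensorLeftAdjunction K K').counit.app L =
    (α_ K' (K ⊗ (RHomR A M).obj L) M).inv ≫
      ((tensorLeftAdjunction K K').counit.app ((RHomR A M).obj L)) ▷ M ≫ DTen.ev M L
  have h1 : evalTen K L M ▷ M ≫ DTen.ev M (K ⊗ L) = evalTenAux K L M := evalTen_fac K L M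
  have h2 : evalTenAux K L M = (α_ K ((RHomR A M).obj L) M).hom ≫ K ◁ DTen.ev M L := rfl
  rw [← MonoidalCategory.whiskerLeft_comp_assoc, h1, h2]
  exact tensorLeft_key K K' _ M L (DTen.ev M L)

include K' in
theorem isIso_evalTen_of_exactPairing_left (L : Dual.D A) : IsIso (evalTen K L M) := by
  rw [evalTen_eq_conjAssoc K K' M L]
  infer_instance

end LeftDual

end Groth.Agent.Lib.Helper25.DMon
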