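import Groth.Agent.Lib.Helper25.DMon.Struct

/-!
# The monoidal category structure on `D(A)` given by the derived tensor product `DTen.LTen₂`

Under the binders `HasLTen`, `HasLTen₃`, `IsSymMonoidal` the structure maps of `Def_DTen3` satisfy
the pentagon and triangle identities (proved by reduction to complexes through presentations), so
that `D(A)` is a monoidal category (`monoidalD`, a scoped instance of this namespace).
-/

set_option autoImplicit false
universe u

open CategoryTheory CategoryTheory.Limits MonoidalCategory DerivedCategory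

namespace Groth.Agent.Lib.Helper25.DMon

attribute [local instance] HasDerivedCategory.standard

open Groth.Agent.Lib.Helper25.TensorCx Groth.Agent.Lib.Helper25.KFlat
open Groth.Agent.Lib.Helper25.LTenCompute DTen

variable {A : Type u} [CommRing A] [DTen.HasLTen A] [DTen.HasLTen₃ A] [DTen.IsSymMonoidal A]

theorem pentagon (W X Y Z : Dual.D A) :
    (LTen₂ A).map (Prod.mkHom (associator W X Y).hom (𝟙 Z)) ≫
      (associator W ((LTen₂ A).obj (X, Y)) Z).hom ≫
        (LTen₂ A).map (Prod.mkHom (𝟙 W) (associator X Y Z).hom) =
      (associator ((LTen₂ A).obj (W, X)) Y Z).hom ≫ (associator W X ((LTen₂ A).obj (Y, Z))).hom := by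
  obtain ⟨w, hw⟩ := exists_good W
  obtain ⟨x, hx⟩ := exists_good X
  obtain ⟨y, hy⟩ := exists_good Y
  obtain ⟨z, hz⟩ := exists_good Z
  have hgood := (hw.tensor (hx.tensor (hy.tensor hz))).isIso
  have h1 := ((presents_associator w x y).tensorHom (presents_id z)).comp
    ((presents_associator w (x.tensor y) z).comp
      ((presents_id w).tensorHom (presents_associator x y z)))
  have h2 := (presents_associator (w.tensor x) y z).comp (presents_associator w x (y.tensor z))
  refine eq_of_presents hgood h1 (h2.of_eq ?_)
  rw [MonoidalCategory.tensorHom_id, MonoidalCategory.id_tensorHom]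
  exact (MonoidalCategory.pentagon w.C x.C y.C z.C).symm

theorem triangle (X Y : Dual.D A) :
    (associator X (DTen.unit A) Y).hom ≫ (LTen₂ A).map (Prod.mkHom (𝟙 X) (leftUnitor Y).hom) =
      (LTen₂ A).map (Prod.mkHom (rightUnitor X).hom (𝟙 Y)) := by
  obtain ⟨x, hx⟩ := exists_good X
  obtain ⟨y, hy⟩ := exists_good Y
  have hgood := (hx.tensor hy).isIso
  have h1 := (presents_associator x Pres.one y).comp
    ((presents_id x).tensorHom (presents_leftUnitor y))
  have h2 := (presents_rightUnitor x).tensorHom (presents_id y)
  refine eq_of_presents hgood h1 (h2.of_eq ?_)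
  rw [MonoidalCategory.tensorHom_id, MonoidalCategory.id_tensorHom]
  exact (MonoidalCategory.triangle x.C y.C).symm

/-- the monoidal structure on `D(A)` -/
@[reducible] noncomputable def monoidalStructD : MonoidalCategoryStruct (Dual.D A) where
  tensorObj X Y := (LTen₂ A).obj (X, Y)
  whiskerLeft X _ _ f := (LTen₂ A).map (Prod.mkHom (𝟙 X) f)
  whiskerRight f Y := (LTen₂ A).map (Prod.mkHom f (𝟙 Y))
  tensorHom f g := (LTen₂ A).map (Prod.mkHom f g)
  tensorUnit := DTen.unit A
  associator := DTen.associator
  leftUnitor := DTen.leftUnitor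
  rightUnitor := DTen.rightUnitor

/-- `D(A)` is a monoidal category for the derived tensor product -/
@[reducible] noncomputable def monoidalD : MonoidalCategory (Dual.D A) :=
  { monoidalStructD with
    tensorHom_def := by
      intro X₁ Y₁ X₂ Y₂ f g
      change (LTen₂ A).map (Prod.mkHom f g) = (LTen₂ A).map (Prod.mkHom f (𝟙 X₂)) ≫
        (LTen₂ A).map (Prod.mkHom (𝟙 Y₁) g)
      rw [← Functor.map_comp]
      congr 1
      change _ = Prod.mkHom (f ≫ 𝟙 _) (𝟙 _ ≫ g)
      rw [Category.comp_id, Category.id_comp]
    id_tensorHom_id := by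
      intro X₁ X₂
      exact (LTen₂ A).map_id (X₁, X₂)
    tensorHom_comp_tensorHom := by
      intro X₁ Y₁ Z₁ X₂ Y₂ Z₂ f₁ f₂ g₁ g₂
      exact ((LTen₂ A).map_comp (Prod.mkHom f₁ f₂) (Prod.mkHom g₁ g₂)).symm
    whiskerLeft_id := by
      intro X Y
      exact (LTen₂ A).map_id (X, Y)
    id_whiskerRight := by
      intro X Y
      exact (LTen₂ A).map_id (X, Y)
    associator_naturality := by
      intro X₁ X₂ X₃ Y₁ Y₂ Y₃ f₁ f₂ f₃
      exact associator_naturality f₁ f₂ f₃
    leftUnitor_naturality := by
      intro X Y f
      exact (unitL A).naturality f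
    rightUnitor_naturality := by
      intro X Y f
      exact (unitR A).naturality f
    pentagon := pentagon
    triangle := triangle }

scoped[Groth.Agent.Lib.Helper25.DMon] attribute [instance] monoidalD

end Groth.Agent.Lib.Helper25.DMon
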