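import Groth.Agent.Lib.Helper25.LTenCompute
import Groth.Prelude.Def_DTen3

/-!
# Presentations of objects of `D(A)` by complexes, and of morphisms by chain maps

A presentation of `X : D(A)` is a complex `C` with a map `E : X ⟶ Q C` (good if `E` is an
isomorphism and `C` is K-flat).  Presentations can be tensored (using the counit of `LTen₂`).
A morphism `s : X ⟶ Y` is presented by `c : C_X ⟶ C_Y` if `s ≫ E_Y = E_X ≫ Q c`.
The structural maps of the derived tensor product (associator, unitors) are presented by the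
structural maps of the monoidal category of complexes.  Two morphisms into a well presented
object which are presented by the same chain map are equal: this reduces coherence in `D(A)`
to coherence for complexes.
-/

set_option autoImplicit false
universe u

open CategoryTheory CategoryTheory.Limits MonoidalCategory DerivedCategory

namespace Groth.Agent.Lib.Helper25.DMon

attribute [local instance] HasDerivedCategory.standard

open Groth.Agent.Lib.Helper25.TensorCx Groth.Agent.Lib.Helper25.KFlat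
open Groth.Agent.Lib.Helper25.LTenCompute DTen

variable {A : Type u} [CommRing A] [DTen.HasLTen A]

/-- A presentation of an object of `D(A)` by a complex. -/
structure Pres (X : Dual.D A) where
  /-- the complex -/
  C : Cx A
  /-- the comparison map -/
  E : X ⟶ Q.obj C

/-- the tautological presentation of `Q K` -/
noncomputable def Pres.leaf (K : Cx A) : Pres (Q.obj K) := ⟨K, 𝟙 _⟩

/-- the presentation of the unit -/
noncomputable def Pres.one : Pres (DTen.unit A) := Pres.leaf (𝟙_ (Cx A))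

/-- tensor product of presentations -/
noncomputable def Pres.tensor {X Y : Dual.D A} (p : Pres X) (q : Pres Y) :
    Pres ((LTen₂ A).obj (X, Y)) :=
  ⟨p.C ⊗ q.C, (LTen₂ A).map (Prod.mkHom p.E q.E) ≫ (ε A).app (p.C, q.C)⟩

/-- a good presentation: the comparison is an isomorphism and the complex is K-flat -/
structure Pres.Good {X : Dual.D A} (p : Pres X) : Prop where
  isIso : IsIso p.E
  kflat : IsKFlat p.C

/-- `s` is presented by `c` -/
def Presents {X Y : Dual.D A} (p : Pres X) (q : Pres Y) (s : X ⟶ Y) (c : p.C ⟶ q.C) : Prop :=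
  s ≫ q.E = p.E ≫ Q.map c

theorem presents_id {X : Dual.D A} (p : Pres X) : Presents p p (𝟙 X) (𝟙 p.C) := by
  unfold Presents
  rw [Category.id_comp, Q.map_id, Category.comp_id]

theorem Presents.comp {X Y Z : Dual.D A} {p : Pres X} {q : Pres Y} {r : Pres Z} {s : X ⟶ Y}
    {t : Y ⟶ Z} {c : p.C ⟶ q.C} {d : q.C ⟶ r.C} (h₁ : Presents p q s c) (h₂ : Presents q r t d) :
    Presents p r (s ≫ t) (c ≫ d) := by
  unfold Presents at *
  rw [Category.assoc, h₂, reassoc_of% h₁, Q.map_comp]

theorem Presents.of_eq {X Y : Dual.D A} {p : Pres X} {q : Pres Y} {s : X ⟶ Y}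
    {c c' : p.C ⟶ q.C} (h : Presents p q s c) (hc : c = c') : Presents p q s c' := hc ▸ h

theorem Presents.inv {X Y : Dual.D A} {p : Pres X} {q : Pres Y} {s : X ⟶ Y} {c : p.C ⟶ q.C}
    (h : Presents p q s c) [IsIso s] [IsIso c] : Presents q p (inv s) (inv c) := by
  unfold Presents at *
  rw [IsIso.inv_comp_eq, ← Category.assoc, h, Category.assoc, ← Q.map_comp, IsIso.hom_inv_id,
    Q.map_id, Category.comp_id]

theorem eq_of_presents {X Y : Dual.D A} {p : Pres X} {q : Pres Y} (hq : IsIso q.E) {s s' : X ⟶ Y}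
    {c : p.C ⟶ q.C} (h : Presents p q s c) (h' : Presents p q s' c) : s = s' := by
  unfold Presents at *
  rw [← cancel_mono q.E, h, h']

theorem Presents.tensorHom {X X' Y Y' : Dual.D A} {p : Pres X} {p' : Pres X'} {q : Pres Y}
    {q' : Pres Y'} {s : X ⟶ X'} {t : Y ⟶ Y'} {c : p.C ⟶ p'.C} {d : q.C ⟶ q'.C}
    (h₁ : Presents p p' s c) (h₂ : Presents q q' t d) :
    Presents (p.tensor q) (p'.tensor q') ((LTen₂ A).map (Prod.mkHom s t)) (c ⊗ₘ d) := by
  unfold Presents at *
  dsimp only [Pres.tensor]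
  have nat := (ε A).naturality (Prod.mkHom c d : (p.C, q.C) ⟶ (p'.C, q'.C))
  have e1 : (tensor₂ A).map (Prod.mkHom c d : (p.C, q.C) ⟶ (p'.C, q'.C)) = Q.map (c ⊗ₘ d) := by
    change Q.map ((c ▷ q.C) ≫ (p'.C ◁ d)) = _
    rw [MonoidalCategory.tensorHom_def]
  have e2 : (QQ A ⋙ LTen₂ A).map (Prod.mkHom c d : (p.C, q.C) ⟶ (p'.C, q'.C)) =
      (LTen₂ A).map (Prod.mkHom (Q.map c) (Q.map d)) := rfl
  rw [e1, e2] at nat
  rw [← Category.assoc, ← Functor.map_comp, Category.assoc, ← nat, ← Category.assoc,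
    ← Functor.map_comp]
  congr 2
  change Prod.mkHom (s ≫ p'.E) (t ≫ q'.E) = Prod.mkHom (p.E ≫ Q.map c) (q.E ≫ Q.map d)
  rw [h₁, h₂]

theorem isKFlat_one : IsKFlat (𝟙_ (Cx A)) := fun L hL => acyclic_of_iso (ρ_ L).symm hL

theorem Pres.Good.leaf {K : Cx A} (hK : IsKFlat K) : (Pres.leaf K).Good :=
  ⟨by dsimp [Pres.leaf]; infer_instance, hK⟩

theorem Pres.Good.one : (Pres.one (A := A)).Good := Pres.Good.leaf isKFlat_one

theorem Pres.Good.tensor {X Y : Dual.D A} {p : Pres X} {q : Pres Y} (hp : p.Good) (hq : q.Good) :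
    (p.tensor q).Good := by
  refine ⟨?_, isKFlat_tensor hp.kflat hq.kflat⟩
  have := hp.isIso
  have := hq.isIso
  have h1 : IsIso (Prod.mkHom p.E q.E : ((X, Y) : Dual.D A × Dual.D A) ⟶ _) :=
    (isIso_prod_iff (f := (Prod.mkHom p.E q.E : ((X, Y) : Dual.D A × Dual.D A) ⟶ _))).2
      ⟨hp.isIso, hq.isIso⟩
  have h2 : IsIso ((ε A).app (p.C, q.C)) := isIso_ε_app p.C q.C (Or.inl hp.kflat)
  dsimp only [Pres.tensor]
  infer_instance

theorem exists_good (X : Dual.D A) : ∃ p : Pres X, p.Good := by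
  obtain ⟨P, -, hPf, ⟨e⟩⟩ := exists_kproj_kflat X
  exact ⟨⟨P, e.inv⟩, ⟨by dsimp; infer_instance, hPf⟩⟩

end Groth.Agent.Lib.Helper25.DMon
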