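import Groth.Agent.Lib.Helper25.DMon.Instance
import Groth.Agent.Lib.Helper25.DualCx2
import Mathlib.CategoryTheory.Monoidal.Rigid.Basic

/-!
# Perfect complexes are dualizable in `D(A)`

For a bounded complex `P` of finite projective modules, `Q P` has the right dual `Q (dualCx P)` in
the monoidal category `D(A)` (`exactPairingQ`); hence every perfect object of `D(A)` has a right
dual (`exists_exactPairing_of_isPerfect`).
-/

set_option autoImplicit false
universe u

open CategoryTheory CategoryTheory.Limits MonoidalCategory DerivedCategory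

namespace Groth.Agent.Lib.Helper25.DMon

attribute [local instance] HasDerivedCategory.standard

open Groth.Agent.Lib.Helper25.TensorCx Groth.Agent.Lib.Helper25.KFlat
open Groth.Agent.Lib.Helper25.LTenCompute DTen
open Groth.Agent.Lib.Helper25.DualCx

variable {A : Type u} [CommRing A] [DTen.HasLTen A] [DTen.HasLTen₃ A] [DTen.IsSymMonoidal A]

section Cx

variable (P : Cx A) [hfin : ∀ i, Module.Finite A (P.X i)]
  [hproj : ∀ i, Module.Projective A (P.X i)]
  (a b : ℤ) (hP : ∀ i : ℤ, i < a ∨ b < i → IsZero (P.X i))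

include hP in
omit hfin in
theorem isKFlat_of_bounded_projective : IsKFlat P :=
  isKFlat_of_boundedAbove_of_flat P b (fun q hq => hP q (Or.inr hq)) (fun q => inferInstance)

include hP in
theorem isKFlat_dualCx : IsKFlat (dualCx P) := by
  refine isKFlat_of_boundedAbove_of_flat (dualCx P) (-a) (fun q hq => ?_) (fun q => ?_)
  · have hz : IsZero (P.X (-q)) := hP (-q) (Or.inl (by omega))
    have := ModuleCat.subsingleton_of_isZero hz
    have : Subsingleton (Module.Dual A (P.X (-q))) := ⟨fun f g => LinearMap.ext fun x => by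
      rw [Subsingleton.elim x 0, map_zero, map_zero]⟩
    exact ModuleCat.isZero_of_subsingleton (ModuleCat.of A (Module.Dual A (P.X (-q))))
  · change Module.Flat A (Module.Dual A (P.X (-q)))
    infer_instance

/-- the coevaluation in `D(A)` -/
noncomputable def coevD : DTen.unit A ⟶ (LTen₂ A).obj (Q.obj P, Q.obj (dualCx P)) :=
  haveI : IsIso ((ε A).app (P, dualCx P)) :=
    isIso_ε_app P (dualCx P) (Or.inl (isKFlat_of_bounded_projective P a b hP))
  Q.map (coev P a b hP) ≫ inv ((ε A).app (P, dualCx P))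

/-- the evaluation in `D(A)` -/
noncomputable def evD : (LTen₂ A).obj (Q.obj (dualCx P), Q.obj P) ⟶ DTen.unit A :=
  (ε A).app (dualCx P, P) ≫ Q.map (DualCx.ev P)

theorem presents_coevD :
    Presents Pres.one ((Pres.leaf P).tensor (Pres.leaf (dualCx P))) (coevD P a b hP)
      (coev P a b hP) := by
  unfold Presents coevD
  dsimp only [Pres.tensor, Pres.one, Pres.leaf]
  have : (Prod.mkHom (𝟙 (Q.obj P)) (𝟙 (Q.obj (dualCx P))) :
      ((Q.obj P, Q.obj (dualCx P)) : Dual.D A × Dual.D A) ⟶ _) = 𝟙 _ := rfl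
  rw [this, CategoryTheory.Functor.map_id, Category.id_comp, Category.id_comp, Category.assoc, IsIso.inv_hom_id,
    Category.comp_id]

omit hfin hproj in
theorem presents_evD :
    Presents ((Pres.leaf (dualCx P)).tensor (Pres.leaf P)) Pres.one (evD P) (DualCx.ev P) := by
  unfold Presents evD
  dsimp only [Pres.tensor, Pres.one, Pres.leaf]
  have : (Prod.mkHom (𝟙 (Q.obj (dualCx P))) (𝟙 (Q.obj P)) :
      ((Q.obj (dualCx P), Q.obj P) : Dual.D A × Dual.D A) ⟶ _) = 𝟙 _ := rfl
  rw [this, CategoryTheory.Functor.map_id, Category.id_comp, Category.comp_id]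

theorem evaluation_coevaluation_D :
    (LTen₂ A).map (Prod.mkHom (coevD P a b hP) (𝟙 (Q.obj P))) ≫
      (DTen.associator (Q.obj P) (Q.obj (dualCx P)) (Q.obj P)).hom ≫
        (LTen₂ A).map (Prod.mkHom (𝟙 (Q.obj P)) (evD P)) =
      (DTen.leftUnitor (Q.obj P)).hom ≫ (DTen.rightUnitor (Q.obj P)).inv := by
  have hPf := isKFlat_of_bounded_projective P a b hP
  have hgood : IsIso ((Pres.leaf P).tensor (Pres.one (A := A))).E :=
    ((Pres.Good.leaf hPf).tensor Pres.Good.one).isIso
  have h1 := ((presents_coevD P a b hP).tensorHom (presents_id (Pres.leaf P))).comp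
    ((presents_associator (Pres.leaf P) (Pres.leaf (dualCx P)) (Pres.leaf P)).comp
      ((presents_id (Pres.leaf P)).tensorHom (presents_evD P)))
  have h2 := (presents_leftUnitor (Pres.leaf P)).comp (presents_rightUnitor (Pres.leaf P)).inv
  rw [IsIso.Iso.inv_hom] at h2
  refine eq_of_presents hgood h1 (h2.of_eq ?_)
  rw [MonoidalCategory.tensorHom_id, MonoidalCategory.id_tensorHom, IsIso.Iso.inv_hom]
  exact (DualCx.evaluation_coevaluation P a b hP).symm

theorem coevaluation_evaluation_D :
    (LTen₂ A).map (Prod.mkHom (𝟙 (Q.obj (dualCx P))) (coevD P a b hP)) ≫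
      (DTen.associator (Q.obj (dualCx P)) (Q.obj P) (Q.obj (dualCx P))).inv ≫
        (LTen₂ A).map (Prod.mkHom (evD P) (𝟙 (Q.obj (dualCx P)))) =
      (DTen.rightUnitor (Q.obj (dualCx P))).hom ≫ (DTen.leftUnitor (Q.obj (dualCx P))).inv := by
  have hPf := isKFlat_dualCx P a b hP
  have hgood : IsIso ((Pres.one (A := A)).tensor (Pres.leaf (dualCx P))).E :=
    (Pres.Good.one.tensor (Pres.Good.leaf hPf)).isIso
  have h1 := ((presents_id (Pres.leaf (dualCx P))).tensorHom (presents_coevD P a b hP)).comp
    ((presents_associator (Pres.leaf (dualCx P)) (Pres.leaf P) (Pres.leaf (dualCx P))).inv.comp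
      ((presents_evD P).tensorHom (presents_id (Pres.leaf (dualCx P)))))
  have h2 := (presents_rightUnitor (Pres.leaf (dualCx P))).comp
    (presents_leftUnitor (Pres.leaf (dualCx P))).inv
  rw [IsIso.Iso.inv_hom] at h1 h2
  refine eq_of_presents hgood h1 (h2.of_eq ?_)
  rw [MonoidalCategory.tensorHom_id, MonoidalCategory.id_tensorHom, IsIso.Iso.inv_hom,
    IsIso.Iso.inv_hom]
  exact (DualCx.coevaluation_evaluation P a b hP).symm

/-- `Q (dualCx P)` is a right dual of `Q P` in `D(A)` -/
noncomputable def exactPairingQ : ExactPairing (Q.obj P) (Q.obj (dualCx P)) where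
  coevaluation' := coevD P a b hP
  evaluation' := evD P
  coevaluation_evaluation' := coevaluation_evaluation_D P a b hP
  evaluation_coevaluation' := evaluation_coevaluation_D P a b hP

end Cx

/-- every perfect object of `D(A)` has a right dual -/
theorem exists_exactPairing_of_isPerfect (M : Dual.D A) (hM : DRing.IsPerfect A M) :
    ∃ N : Dual.D A, Nonempty (ExactPairing M N) := by
  obtain ⟨E, a, b, hE, hfp, ⟨e⟩⟩ := hM
  have : ∀ i, Module.Finite A (E.X i) := fun i => (hfp i).1
  have : ∀ i, Module.Projective A (E.X i) := fun i => (hfp i).2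
  have := exactPairingQ E a b hE
  exact ⟨Q.obj (dualCx E), ⟨exactPairingCongrLeft e.symm⟩⟩

/-- every perfect object of `D(A)` is a right dual -/
theorem exists_exactPairing_left_of_isPerfect (M : Dual.D A) (hM : DRing.IsPerfect A M) :
    ∃ N : Dual.D A, Nonempty (ExactPairing N M) := by
  obtain ⟨E, a, b, hE, hfp, ⟨e⟩⟩ := hM
  have : ∀ i, Module.Finite A (E.X i) := fun i => (hfp i).1
  have : ∀ i, Module.Projective A (E.X i) := fun i => (hfp i).2
  have := exactPairingQ (dualCx E) (-b) (-a) (dualCx_isZero E a b hE)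
  have i : M ≅ Q.obj (dualCx (dualCx E)) := e.symm ≪≫ Q.mapIso (ddIso E)
  exact ⟨Q.obj (dualCx E), ⟨exactPairingCongrRight i⟩⟩

end Groth.Agent.Lib.Helper25.DMon
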