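import Groth.Agent.Lib.Helper25.DMon.Pres

/-!
# The structural maps of the derived tensor product are presented by those of complexes
-/

set_option autoImplicit false
universe u

open CategoryTheory CategoryTheory.Limits MonoidalCategory DerivedCategory

namespace Groth.Agent.Lib.Helper25.DMon

attribute [local instance] HasDerivedCategory.standard

open Groth.Agent.Lib.Helper25.TensorCx Groth.Agent.Lib.Helper25.KFlat
open Groth.Agent.Lib.Helper25.LTenCompute DTen

variable {A : Type u} [CommRing A] [DTen.HasLTen A] [DTen.HasLTen₃ A] [DTen.IsSymMonoidal A]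

theorem associator_naturality {X₁ X₂ X₃ Y₁ Y₂ Y₃ : Dual.D A} (f₁ : X₁ ⟶ Y₁) (f₂ : X₂ ⟶ Y₂)
    (f₃ : X₃ ⟶ Y₃) :
    (LTen₂ A).map (Prod.mkHom ((LTen₂ A).map (Prod.mkHom f₁ f₂)) f₃) ≫ (associator Y₁ Y₂ Y₃).hom =
      (associator X₁ X₂ X₃).hom ≫
        (LTen₂ A).map (Prod.mkHom f₁ ((LTen₂ A).map (Prod.mkHom f₂ f₃))) := by
  have hL := (assocL A).naturality (X := (X₁, (X₂, X₃))) (Y := (Y₁, (Y₂, Y₃)))
    (Prod.mkHom f₁ (Prod.mkHom f₂ f₃))
  have hR := (assocR A).naturality (X := (X₁, (X₂, X₃))) (Y := (Y₁, (Y₂, Y₃)))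
    (Prod.mkHom f₁ (Prod.mkHom f₂ f₃))
  have e1 : (LTenR A).map (X := (X₁, (X₂, X₃))) (Y := (Y₁, (Y₂, Y₃)))
      (Prod.mkHom f₁ (Prod.mkHom f₂ f₃)) =
      (LTen₂ A).map (Prod.mkHom f₁ ((LTen₂ A).map (Prod.mkHom f₂ f₃))) := rfl
  have e2 : (LTenL A).map (X := (X₁, (X₂, X₃))) (Y := (Y₁, (Y₂, Y₃)))
      (Prod.mkHom f₁ (Prod.mkHom f₂ f₃)) =
      (LTen₂ A).map (Prod.mkHom ((LTen₂ A).map (Prod.mkHom f₁ f₂)) f₃) := rfl
  rw [e1] at hR
  rw [e2] at hL
  rw [← cancel_mono ((assocR A).app (Y₁, (Y₂, Y₃))), Category.assoc, Category.assoc,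
    associator_hom_assocR]
  refine hL.trans ?_
  have h3 := congrArg (fun z => (associator X₁ X₂ X₃).hom ≫ z) hR
  refine Eq.trans ?_ h3.symm
  exact (associator_hom_assocR_assoc X₁ X₂ X₃ _).symm

/-- the computation rule for the associator on images of complexes -/
theorem associator_hom_βR (K L M : Cx A) :
    (associator (Q.obj K) (Q.obj L) (Q.obj M)).hom ≫ (βR A).app (K, (L, M)) =
      (βL A).app (K, (L, M)) := by
  rw [← assocR_fac, ← assocL_fac]
  exact associator_hom_assocR_assoc (Q.obj K) (Q.obj L) (Q.obj M) _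

theorem presents_associator {X Y Z : Dual.D A} (p : Pres X) (q : Pres Y) (r : Pres Z) :
    Presents ((p.tensor q).tensor r) (p.tensor (q.tensor r)) (associator X Y Z).hom
      (α_ p.C q.C r.C).hom := by
  unfold Presents
  dsimp only [Pres.tensor]
  have h1 := associator_naturality p.E q.E r.E
  have h2 := associator_hom_βR p.C q.C r.C
  dsimp only [βR, βL] at h2
  -- right hand side
  have eR : (LTen₂ A).map (Prod.mkHom p.E ((LTen₂ A).map (Prod.mkHom q.E r.E) ≫
      (ε A).app (q.C, r.C))) =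
      (LTen₂ A).map (Prod.mkHom p.E ((LTen₂ A).map (Prod.mkHom q.E r.E))) ≫
        (LTen₂ A).map (Prod.mkHom (𝟙 (Q.obj p.C)) ((ε A).app (q.C, r.C))) := by
    rw [← Functor.map_comp]
    congr 1
    change _ = Prod.mkHom (p.E ≫ 𝟙 _) _
    rw [Category.comp_id]
  have eL : (LTen₂ A).map (Prod.mkHom ((LTen₂ A).map (Prod.mkHom p.E q.E) ≫
      (ε A).app (p.C, q.C)) r.E) =
      (LTen₂ A).map (Prod.mkHom ((LTen₂ A).map (Prod.mkHom p.E q.E)) r.E) ≫
        (LTen₂ A).map (Prod.mkHom ((ε A).app (p.C, q.C)) (𝟙 (Q.obj r.C))) := by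
    rw [← Functor.map_comp]
    congr 1
    change _ = Prod.mkHom _ (r.E ≫ 𝟙 _)
    rw [Category.comp_id]
  rw [eR, eL]
  simp only [Category.assoc]
  rw [← reassoc_of% h1]
  congr 1

theorem presents_leftUnitor {X : Dual.D A} (p : Pres X) :
    Presents (Pres.one.tensor p) p (leftUnitor X).hom (λ_ p.C).hom := by
  unfold Presents
  dsimp only [Pres.tensor, Pres.one, Pres.leaf]
  rw [leftUnitor_hom]
  have nat := (unitL A).naturality p.E
  have h := unitL_app A p.C
  dsimp at nat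
  rw [← nat, h, Category.assoc]

theorem presents_rightUnitor {X : Dual.D A} (p : Pres X) :
    Presents (p.tensor Pres.one) p (rightUnitor X).hom (ρ_ p.C).hom := by
  unfold Presents
  dsimp only [Pres.tensor, Pres.one, Pres.leaf]
  rw [rightUnitor_hom]
  have nat := (unitR A).naturality p.E
  have h := unitR_app A p.C
  dsimp at nat
  rw [← nat, h, Category.assoc]

end Groth.Agent.Lib.Helper25.DMon
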