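import Groth.Agent.Lib.Helper25.WayOutCx2
import Groth.Agent.Lib.Helper25.DMon.EvalNat

/-!
# Way-out estimates for the derived tensor product and internal hom of `D(A)`
-/

set_option autoImplicit false
universe u

open CategoryTheory CategoryTheory.Limits MonoidalCategory DerivedCategory
open CategoryTheory.Pretriangulated

namespace Groth.Agent.Lib.Helper25.DMon

attribute [local instance] HasDerivedCategory.standard

open DTen Groth.Agent.Lib.Helper25.WayOutCx Groth.Agent.Lib.Helper25.KFlat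
open Groth.Agent.Lib.Helper25.LTenCompute Groth.Agent.Lib.Helper25.TensorCx

variable {A : Type u} [CommRing A]

theorem isKFlat_sglA (i : ℤ) : IsKFlat (sglA A i) := by
  refine isKFlat_of_boundedAbove_of_flat (sglA A i) i (fun q hq =>
    HomologicalComplex.isZero_single_obj_X (ComplexShape.up ℤ) i (ModuleCat.of A A) q (by omega))
    (fun q => ?_)
  by_cases h : q = i
  · subst h
    exact Module.Flat.of_linearEquiv
      (HomologicalComplex.singleObjXSelf (ComplexShape.up ℤ) q (ModuleCat.of A A)).toLinearEquiv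
  · have : Subsingleton ((sglA A i).X q) := ModuleCat.isZero_iff_subsingleton.1
      (HomologicalComplex.isZero_single_obj_X (ComplexShape.up ℤ) i (ModuleCat.of A A) q h)
    infer_instance

variable [DTen.HasLTen A] [DTen.HasLTen₃ A] [DTen.IsSymMonoidal A]

/-- the comparison square between `X ◁ Q(ι)` and `Q(X'' ◁ ι)` for a representative `X''` of `X` -/
theorem whiskerLeft_Q_map_comp (X : Dual.D A) (X'' : Cx A) (e : X ≅ Q.obj X'') {E' E : Cx A}
    (ι : E' ⟶ E) :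
    X ◁ Q.map ι ≫ (e.hom ▷ Q.obj E ≫ (ε A).app (X'', E)) =
      (e.hom ▷ Q.obj E' ≫ (ε A).app (X'', E')) ≫ Q.map (X'' ◁ ι) := by
  have h := (εLeft A X'').naturality ι
  change (Q.obj X'') ◁ Q.map ι ≫ (ε A).app (X'', E) = (ε A).app (X'', E') ≫ Q.map (X'' ◁ ι) at h
  rw [whisker_exchange_assoc, h, Category.assoc]

/-- the comparison isomorphism `X ⊗ᴸ Q(E) ≅ Q(X'' ⊗ E)` for `E` K-flat -/
noncomputable def tensorIsoOfKFlat (X : Dual.D A) (X'' : Cx A) (e : X ≅ Q.obj X'') (E : Cx A)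
    (hE : IsKFlat E) : X ⊗ Q.obj E ≅ Q.obj (X'' ⊗ E : Cx A) :=
  haveI : IsIso ((ε A).app (X'', E)) := isIso_ε_app X'' E (Or.inr hE)
  whiskerRightIso e (Q.obj E) ≪≫ asIso ((ε A).app (X'', E))

theorem tensorIsoOfKFlat_hom (X : Dual.D A) (X'' : Cx A) (e : X ≅ Q.obj X'') (E : Cx A)
    (hE : IsKFlat E) :
    (tensorIsoOfKFlat X X'' e E hE).hom = e.hom ▷ Q.obj E ≫ (ε A).app (X'', E) := rfl

theorem whiskerLeft_Q_map_eq (X : Dual.D A) (X'' : Cx A) (e : X ≅ Q.obj X'') {E' E : Cx A}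
    (ι : E' ⟶ E) (hE' : IsKFlat E') (hE : IsKFlat E) :
    X ◁ Q.map ι = (tensorIsoOfKFlat X X'' e E' hE').hom ≫ Q.map (X'' ◁ ι) ≫
      (tensorIsoOfKFlat X X'' e E hE).inv := by
  rw [← Category.assoc, Iso.eq_comp_inv, tensorIsoOfKFlat_hom, tensorIsoOfKFlat_hom]
  exact whiskerLeft_Q_map_comp X X'' e ι

/-- tensoring with `A[-i]` shifts the lower bound by `i` -/
theorem isGE_tensor_sglA (Z : Dual.D A) (m i : ℤ) [Z.IsGE m] :
    (Z ⊗ Q.obj (sglA A i)).IsGE (m + i) := by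
  obtain ⟨Z'', hZ'', ⟨e⟩⟩ := Z.exists_iso_Q_obj_of_isGE m
  have h1 : (Z'' ⊗ sglA A i : Cx A).IsStrictlyGE (m + i) := by
    rw [CochainComplex.isStrictlyGE_iff]
    intro k hk
    exact isZero_tensor_X_of_lt Z'' (sglA A i) m i
      (fun p hp => Z''.isZero_of_isStrictlyGE m p hp)
      (fun q hq => HomologicalComplex.isZero_single_obj_X (ComplexShape.up ℤ) i
        (ModuleCat.of A A) q (by omega)) k hk
  exact DerivedCategory.TStructure.t.isGE_of_iso
    (tensorIsoOfKFlat Z Z'' e (sglA A i) (isKFlat_sglA i)).symm (m + i)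

section Bij

variable {E' E : Cx A} (ι : E' ⟶ E) (hE' : IsKFlat E') (hE : IsKFlat E) (r : ℤ)
  (hι : ∀ q, r ≤ q → IsIso (ι.f q))

include hE' hE hι

/-- **Way-out, covariant**: `Hom(A[-i], X ⊗ᴸ Q(ι))` is bijective for `X ∈ D^{≤ b}` and
`b + r < i` -/
theorem bijective_postcomp_whiskerLeft (X : Dual.D A) (b : ℤ) [X.IsLE b] (i : ℤ)
    (hi : b + r < i) :
    Function.Bijective (fun g : Q.obj (sglA A i) ⟶ X ⊗ Q.obj E' => g ≫ X ◁ Q.map ι) := by
  obtain ⟨X'', hX'', ⟨e⟩⟩ := X.exists_iso_Q_obj_of_isLE b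
  obtain ⟨Z, g, k, hT⟩ := distinguished_cocone_triangle (Q.map (X'' ◁ ι))
  have hZ : Z.IsLE (b + r - 1) := isLE_obj₃_of_isIso_f_ge (X'' ◁ ι) (b + r)
    (fun q hq => isIso_whiskerLeft_f X'' b (fun p hp => X''.isZero_of_isStrictlyLE b p hp) ι r hι
      q hq) g k hT
  have h0 : Subsingleton (Q.obj (sglA A i) ⟶ Z) :=
    subsingleton_hom_sglA_of_isLE Z (b + r - 1) i (by omega)
  have hZ' : (Z⟦(-1 : ℤ)⟧).IsLE (b + r) :=
    DerivedCategory.TStructure.t.isLE_shift Z (b + r - 1) (-1) (b + r) (by omega)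
  have h1 : Subsingleton (Q.obj (sglA A i) ⟶ Z⟦(-1 : ℤ)⟧) :=
    subsingleton_hom_sglA_of_isLE (Z⟦(-1 : ℤ)⟧) (b + r) i hi
  have hb := bijective_postcomp_mor₁ _ hT (Q.obj (sglA A i)) h0 h1
  have hfun : (fun g : Q.obj (sglA A i) ⟶ X ⊗ Q.obj E' => g ≫ X ◁ Q.map ι) =
      (fun g => g ≫ (tensorIsoOfKFlat X X'' e E hE).inv) ∘
        (fun g : Q.obj (sglA A i) ⟶ Q.obj (X'' ⊗ E' : Cx A) => g ≫ Q.map (X'' ◁ ι)) ∘
          (fun g => g ≫ (tensorIsoOfKFlat X X'' e E' hE').hom) := by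
    funext g
    dsimp only [Function.comp]
    rw [whiskerLeft_Q_map_eq X X'' e ι hE' hE]
    simp only [Category.assoc]
  rw [hfun]
  refine Function.Bijective.comp ?_ (Function.Bijective.comp hb ?_)
  · exact ⟨fun a c h => (cancel_mono _).1 h,
      fun a => ⟨a ≫ (tensorIsoOfKFlat X X'' e E hE).hom, by simp⟩⟩
  · exact ⟨fun a c h => (cancel_mono _).1 h,
      fun a => ⟨a ≫ (tensorIsoOfKFlat X X'' e E' hE').inv, by simp⟩⟩

/-- **Way-out, contravariant**: `Hom(T ⊗ᴸ Q(ι), L)` is bijective for `T ∈ D^{≤ m}`,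
`L ∈ D^{≥ n}` and `m + r < n` -/
theorem bijective_precomp_whiskerLeft (T : Dual.D A) (m : ℤ) [T.IsLE m] (L : Dual.D A) (n : ℤ)
    [L.IsGE n] (hn : m + r < n) :
    Function.Bijective (fun φ : T ⊗ Q.obj E ⟶ L => T ◁ Q.map ι ≫ φ) := by
  obtain ⟨T'', hT'', ⟨e⟩⟩ := T.exists_iso_Q_obj_of_isLE m
  obtain ⟨Z, g, k, hT⟩ := distinguished_cocone_triangle (Q.map (T'' ◁ ι))
  have hZ : Z.IsLE (m + r - 1) := isLE_obj₃_of_isIso_f_ge (T'' ◁ ι) (m + r)
    (fun q hq => isIso_whiskerLeft_f T'' m (fun p hp => T''.isZero_of_isStrictlyLE m p hp) ι r hι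
      q hq) g k hT
  have h0 : Subsingleton (Z ⟶ L) :=
    ⟨fun a c => by
      rw [DerivedCategory.TStructure.t.zero a (m + r - 1) n (by omega),
        DerivedCategory.TStructure.t.zero c (m + r - 1) n (by omega)]⟩
  have hZ' : (Z⟦(-1 : ℤ)⟧).IsLE (m + r) :=
    DerivedCategory.TStructure.t.isLE_shift Z (m + r - 1) (-1) (m + r) (by omega)
  have h1 : Subsingleton (Z⟦(-1 : ℤ)⟧ ⟶ L) :=
    ⟨fun a c => by
      rw [DerivedCategory.TStructure.t.zero a (m + r) n hn,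
        DerivedCategory.TStructure.t.zero c (m + r) n hn]⟩
  have hb := Groth.Agent.Lib.Helper25.TriBij.bijective_precomp_mor₁ _ hT L h0 h1
  have hfun : (fun φ : T ⊗ Q.obj E ⟶ L => T ◁ Q.map ι ≫ φ) =
      (fun φ => (tensorIsoOfKFlat T T'' e E' hE').hom ≫ φ) ∘
        (fun φ : Q.obj (T'' ⊗ E : Cx A) ⟶ L => Q.map (T'' ◁ ι) ≫ φ) ∘
          (fun φ => (tensorIsoOfKFlat T T'' e E hE).inv ≫ φ) := by
    funext φ
    dsimp only [Function.comp]
    rw [whiskerLeft_Q_map_eq T T'' e ι hE' hE]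
    simp only [Category.assoc]
  rw [hfun]
  refine Function.Bijective.comp ?_ (Function.Bijective.comp hb ?_)
  · exact ⟨fun a c h => (cancel_epi _).1 h,
      fun a => ⟨(tensorIsoOfKFlat T T'' e E' hE').inv ≫ a, by simp⟩⟩
  · exact ⟨fun a c h => (cancel_epi _).1 h,
      fun a => ⟨(tensorIsoOfKFlat T T'' e E hE).hom ≫ a, by simp⟩⟩

end Bij

section RHom

variable [DTen.HasRHom A]

omit [DTen.HasRHom A] in
/-- `Hom(Z ⊗ᴸ A[-i], M) = 0` for `Z ∈ D^{≥ m}`, `M` of injective amplitude `≤ d` and `d < m + i` -/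
theorem subsingleton_hom_tensor_sglA (Z : Dual.D A) (m i : ℤ) [Z.IsGE m] (M : Dual.D A) (a d : ℤ)
    (hM : DRing.HasInjAmplitudeIn A a d M) (h : d < m + i) :
    Subsingleton (Z ⊗ Q.obj (sglA A i) ⟶ M) := by
  obtain ⟨I, hI, hinj, ⟨eM⟩⟩ := hM
  have h1 : (Z ⊗ Q.obj (sglA A i)).IsGE (m + i) := isGE_tensor_sglA Z m i
  have h2 : (Z ⊗ Q.obj (sglA A i)).IsGE (d + 1) :=
    DerivedCategory.TStructure.t.isGE_of_ge _ (d + 1) (m + i) (by omega)
  have h3 := subsingleton_hom_of_isGE_of_injective (Z ⊗ Q.obj (sglA A i)) I a d hI hinj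
  exact ⟨fun x y => by
    rw [← cancel_mono eM.inv]
    exact h3.elim _ _⟩

/-- `Hom(Z, RHom(A[-i], M)) = 0` for `Z ∈ D^{≥ m}`, `M` of injective amplitude `≤ d`, `d < m + i` -/
theorem subsingleton_hom_RHom_sglA (Z : Dual.D A) (m i : ℤ) [Z.IsGE m] (M : Dual.D A) (a d : ℤ)
    (hM : DRing.HasInjAmplitudeIn A a d M) (h : d < m + i) :
    Subsingleton (Z ⟶ (RHomR A (Q.obj (sglA A i))).obj M) := by
  have := subsingleton_hom_tensor_sglA Z m i M a d hM h
  exact (rhomHomEquiv Z (Q.obj (sglA A i)) M).symm.subsingleton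

/-- `RHom(L, M) ∈ D^{≤ d - n}` for `L ∈ D^{≥ n}` and `M` of injective amplitude `≤ d` -/
theorem isLE_RHom (L : Dual.D A) (n : ℤ) [L.IsGE n] (M : Dual.D A) (a d : ℤ)
    (hM : DRing.HasInjAmplitudeIn A a d M) : ((RHomR A L).obj M).IsLE (d - n) := by
  rw [isLE_iff]
  intro i hi
  apply isZero_homology_of_subsingleton
  have h1 := subsingleton_hom_tensor_sglA L n i M a d hM (by omega)
  have h2 : Subsingleton (Q.obj (sglA A i) ⊗ L ⟶ M) :=
    ((braiding (Q.obj (sglA A i)) L).homFromEquiv (Z := M)).symm.subsingleton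
  exact (rhomHomEquiv (Q.obj (sglA A i)) L M).symm.subsingleton

end RHom

end Groth.Agent.Lib.Helper25.DMon
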